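import Groth.Agent.Lib.HilbObs3.Vanish
import Groth.Agent.Lib.HilbObs3.HomAdj
import Groth.Agent.Lib.Omega12.LocFree
import Groth.Agent.Lib.HomShH7.Basic
import Groth.Agent.Lib.ModM1.LocFree
import Groth.Agent.Lib.AffStratVan4.Main
import Groth.Agent.S12483

/-! Higher extensions of differentials of smooth schemes vanish with cohomology. -/

set_option autoImplicit false
set_option linter.style.haveILetI false
universe u

open CategoryTheory CategoryTheory.Limits AlgebraicGeometry

namespace Groth.Agent.CurveLiftH7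

/-- If quasi-coherent cohomology vanishes in degree `n`, so does `Ext^n(Ω, J)`. -/
theorem subsingleton_ext_omega {X S : Scheme.{u}} (f : X ⟶ S) [Smooth f] [QuasiSeparated f] [HasExt.{u} X.Modules]
    {J : X.Modules} (hJ : Coh.IsQCoh J) (n : ℕ)
    (hH : ∀ M : X.Modules, Coh.IsQCoh M → Subsingleton (Coh.HH X M n)) :
    Subsingleton (Abelian.Ext.{u} (Omega.sheaf f) J n) := by
  haveI : DCoh.HasSheafHom (Omega.sheaf f) := HilbObs3.hasSheafHom _
  have hΩ : FlatMod.IsFinLocFree (Omega.sheaf f) :=
    Omega12.isFinLocFree_receptacle_of_smooth f (Omega12.isUniversal_dOmega f)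
  obtain ⟨e1⟩ := Groth.Agent.S12483.result X (Omega.sheaf f) J hΩ n
  obtain ⟨e2⟩ := HilbObs3.nonempty_sheafHom_iso (Omega.sheaf f) J
  rw [e1.toEquiv.subsingleton_congr]
  exact AffStratVan4.subsingleton_HH_congr e2.symm n (hH _ (HomShH7.isQCoh_homMod (M1.isFP_of_isFinLocFree hΩ) hJ))

end Groth.Agent.CurveLiftH7
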